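import Mathlib

/-! Groups all whose class sizes are one or prime. -/

set_option autoImplicit false

open scoped commutatorElement

namespace Cfsg.Agent.PrimeClassSizes

variable {G : Type*} [Group G] [Finite G]

abbrev C (x : G) : Subgroup G := Subgroup.centralizer ({x} : Set G)

omit [Finite G] in
theorem mem_C {x y : G} : y ∈ C x ↔ y * x = x * y := Subgroup.mem_centralizer_singleton_iff

omit [Finite G] in
theorem mem_C_comm {x y : G} : y ∈ C x ↔ x ∈ C y := by rw [mem_C, mem_C, eq_comm]

omit [Finite G] in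
theorem C_eq_top {x : G} : C x = ⊤ ↔ x ∈ Subgroup.center G := by
  rw [Subgroup.mem_center_iff, eq_top_iff]
  exact ⟨fun h g => mem_C.1 (h (Subgroup.mem_top g)), fun h g _ => mem_C.2 (h g)⟩

omit [Finite G] in
theorem C_le_of_mem {x y : G} (h : y ∈ Subgroup.zpowers x) : C x ≤ C y := by
  intro g hg
  obtain ⟨k, rfl⟩ := Subgroup.mem_zpowers_iff.1 h
  exact mem_C.2 (Commute.zpow_right (mem_C.1 hg) k)

omit [Finite G] in
theorem index_C_conj (g x : G) : (C (g * x * g⁻¹)).index = (C x).index := by
  have : C (g * x * g⁻¹) = (C x).map (MulAut.conj g).toMonoidHom := by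
    ext y
    rw [Subgroup.mem_map_equiv, mem_C, mem_C, MulAut.conj_symm_apply]
    constructor
    · intro h
      calc g⁻¹ * y * g * x = g⁻¹ * (y * (g * x * g⁻¹)) * g := by group
        _ = x * (g⁻¹ * y * g) := by rw [h]; group
    · intro h
      calc y * (g * x * g⁻¹) = g * (g⁻¹ * y * g * x) * g⁻¹ := by group
        _ = g * x * g⁻¹ * y := by rw [h]; group
  rw [this]; exact Subgroup.index_map_of_bijective (MulAut.conj g).bijective (C x)

/-- a subgroup with all elements of `p`-power order has index prime to `p` -/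
theorem not_dvd_index_of_forall {G : Type*} [Group G] [Finite G] (p : ℕ) [Fact p.Prime]
    (U : Subgroup G) (h : ∀ y : G, (∃ k, orderOf y = p ^ k) → y ∈ U) : ¬ p ∣ U.index := by
  let P : Sylow p G := default
  intro hd
  apply P.not_dvd_index
  refine hd.trans (Subgroup.index_dvd_of_le fun y hy => h y ?_)
  obtain ⟨k, hk⟩ := IsPGroup.iff_orderOf.1 P.isPGroup' ⟨y, hy⟩
  exact ⟨k, by rw [← Subgroup.orderOf_coe] at hk; exact hk⟩

/-- no proper subgroup meets every class -/
theorem eq_top_of_conj_cover (H : Subgroup G) (h : ∀ x : G, ∃ g : G, g⁻¹ * x * g ∈ H) : H = ⊤ := by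
  classical
  have : Fintype G := Fintype.ofFinite G
  let f : (G ⧸ H) × {k : H // k ≠ 1} → {x : G // x ≠ 1} := fun p =>
    ⟨p.1.out * ((p.2 : H) : G) * p.1.out⁻¹, fun e => p.2.2 (Subtype.ext (conj_eq_one_iff.1 e))⟩
  have hf : Function.Surjective f := by
    rintro ⟨x, hx⟩
    obtain ⟨g, hg⟩ := h x
    obtain ⟨k, hk⟩ := QuotientGroup.mk_out_eq_mul H g
    have hmem : (↑(k⁻¹ : H) : G) * (g⁻¹ * x * g) * (k : G) ∈ H :=
      H.mul_mem (H.mul_mem (k⁻¹).2 hg) k.2
    refine ⟨⟨(g : G ⧸ H), ⟨⟨_, hmem⟩, fun e => hx ?_⟩⟩, Subtype.ext ?_⟩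
    · have := congrArg Subtype.val e
      simp only [Subgroup.coe_one, Subgroup.coe_inv] at this
      have : x = g * ((k : G) * ((k : G)⁻¹ * (g⁻¹ * x * g) * (k : G)) * (k : G)⁻¹) * g⁻¹ := by group
      rw [this, ‹(k : G)⁻¹ * (g⁻¹ * x * g) * (k : G) = 1›]
      group
    · show (g : G ⧸ H).out * ((k⁻¹ : H) * (g⁻¹ * x * g) * (k : G)) * (g : G ⧸ H).out⁻¹ = x
      rw [hk, Subgroup.coe_inv]
      group
  have hc := Nat.card_le_card_of_surjective f hf
  have e1 : Nat.card {x : G // x ≠ 1} = Nat.card G - 1 := by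
    simp [Nat.card_eq_fintype_card, Fintype.card_subtype_compl]
  have e2 : Nat.card {k : H // k ≠ 1} = Nat.card H - 1 := by
    simp [Nat.card_eq_fintype_card, Fintype.card_subtype_compl]
  rw [Nat.card_prod, e1, e2, ← Subgroup.index_eq_card, Nat.mul_sub, mul_one,
    Subgroup.index_mul_card] at hc
  apply Subgroup.index_eq_one.1
  have h1 : 0 < H.index := Nat.pos_of_ne_zero Subgroup.index_ne_zero_of_finite
  have h2 : H.index ≤ Nat.card G := Nat.le_of_dvd Nat.card_pos H.index_dvd_card
  omega

variable (h : ∀ x : G, (C x).index = 1 ∨ (C x).index.Prime)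
include h

theorem prime_of_noncentral {x : G} (hx : x ∉ Subgroup.center G) : (C x).index.Prime :=
  (h x).resolve_left fun e => hx (C_eq_top.1 (Subgroup.index_eq_one.1 e))

theorem C_eq_of_le {x y : G} (hle : C x ≤ C y) (hy : y ∉ Subgroup.center G) : C x = C y := by
  have hx : x ∉ Subgroup.center G := fun hx =>
    hy (C_eq_top.1 (top_unique (C_eq_top.2 hx ▸ hle)))
  have e : (C y).index = (C x).index :=
    ((Nat.prime_dvd_prime_iff_eq (prime_of_noncentral h hy) (prime_of_noncentral h hx)).1
      (Subgroup.index_dvd_of_le hle))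
  refine le_antisymm hle (Subgroup.relIndex_eq_one.1 ?_)
  have := Subgroup.relIndex_mul_index hle
  rw [e] at this
  exact Nat.mul_right_cancel (Nat.pos_of_ne_zero Subgroup.index_ne_zero_of_finite)
    (this.trans (one_mul _).symm)

/-- a noncentral element has a noncentral primary power with the same centraliser -/
theorem exists_primary {x : G} (hx : x ∉ Subgroup.center G) :
    ∃ (y : G) (s k : ℕ), s.Prime ∧ orderOf y = s ^ k ∧ y ∈ Subgroup.zpowers x ∧
      y ∉ Subgroup.center G ∧ C x = C y := by
  by_contra hc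
  push Not at hc
  apply hx
  let U : Subgroup (Subgroup.zpowers x) := (Subgroup.center G).subgroupOf (Subgroup.zpowers x)
  have hU : U.index = 1 := by
    by_contra hne
    obtain ⟨p, hp, hpd⟩ := Nat.exists_prime_and_dvd hne
    have : Fact p.Prime := ⟨hp⟩
    refine not_dvd_index_of_forall p U (fun y ⟨k, hk⟩ => ?_) hpd
    show (y : G) ∈ Subgroup.center G
    by_contra hy
    exact hc y p k hp (by rw [Subgroup.orderOf_coe]; exact hk) y.2 hy
      (C_eq_of_le h (C_le_of_mem y.2) hy)
  have : (⟨x, Subgroup.mem_zpowers x⟩ : Subgroup.zpowers x) ∈ U := by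
    rw [Subgroup.index_eq_one.1 hU]; exact Subgroup.mem_top _
  exact this

theorem coprime_commute {a b : G} (hc : a * b = b * a) (hab : (orderOf a).Coprime (orderOf b))
    (ha : a ∉ Subgroup.center G) (hb : b ∉ Subgroup.center G) : C a = C b := by
  have key : ∀ a b : G, a * b = b * a → (orderOf a).Coprime (orderOf b) →
      a ∈ Subgroup.zpowers (a * b) := by
    intro a b hc hab
    obtain ⟨m, hm⟩ := exists_pow_eq_self_of_coprime hab.symm
    refine Subgroup.mem_zpowers_iff.2 ⟨((orderOf b * m : ℕ) : ℤ), ?_⟩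
    rw [zpow_natCast, (show Commute a b from hc).mul_pow, pow_mul b, pow_orderOf_eq_one, one_pow,
      mul_one, pow_mul, hm]
  have hbz : b ∈ Subgroup.zpowers (a * b) := by rw [hc]; exact key b a hc.symm hab.symm
  rw [← C_eq_of_le h (C_le_of_mem (key a b hc hab)) ha, C_eq_of_le h (C_le_of_mem hbz) hb]

/-- commuting noncentral elements have the same class size -/
theorem index_eq_of_commute {x y : G} (hxy : x * y = y * x) (hx : x ∉ Subgroup.center G)
    (hy : y ∉ Subgroup.center G) : (C x).index = (C y).index := by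
  by_contra hne
  obtain ⟨a, s, i, hs, ha, haz, hanc, hCa⟩ := exists_primary h hx
  obtain ⟨b, t, j, ht, hb, hbz, hbnc, hCb⟩ := exists_primary h hy
  rw [hCa, hCb] at hne
  have hab : b ∈ C a := by
    apply C_le_of_mem haz
    rw [mem_C_comm]
    exact C_le_of_mem hbz (mem_C.2 hxy)
  by_cases hst : s = t
  · subst hst
    -- one of the two indices differs from `s`
    have main : ∀ (a b : G) (i j : ℕ), orderOf a = s ^ i → orderOf b = s ^ j →
        a ∉ Subgroup.center G → b ∉ Subgroup.center G → b ∈ C a →
        (C a).index ≠ (C b).index → (C b).index = s := by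
      intro a b i j ha hb hanc hbnc hab hne
      by_contra hqs
      set q := (C b).index with hq
      have hqp : q.Prime := prime_of_noncentral h hbnc
      have : Fact q.Prime := ⟨hqp⟩
      have hd : q ∣ (C a ⊓ C b).index := Subgroup.index_dvd_of_le inf_le_right
      rw [← Subgroup.relIndex_mul_index (inf_le_left : C a ⊓ C b ≤ C a)] at hd
      rcases hqp.dvd_mul.1 hd with hd | hd
      · refine not_dvd_index_of_forall q ((C a ⊓ C b).subgroupOf (C a)) (fun c ⟨k, hk⟩ => ?_) hd
        show (c : G) ∈ C a ⊓ C b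
        refine ⟨c.2, ?_⟩
        by_cases hcz : (c : G) ∈ Subgroup.center G
        · exact mem_C.2 (Subgroup.mem_center_iff.1 hcz b).symm
        · have hcop : (orderOf (c : G)).Coprime (orderOf a) := by
            rw [Subgroup.orderOf_coe, hk, ha]
            exact Nat.Coprime.pow k i ((Nat.coprime_primes hqp hs).2 hqs)
          have e := coprime_commute h (mem_C.1 c.2) hcop hcz hanc
          rw [← e] at hab
          exact mem_C_comm.1 hab
      · exact hne ((Nat.prime_dvd_prime_iff_eq hqp (prime_of_noncentral h hanc)).1 hd).symm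
    have e1 := main a b i j ha hb hanc hbnc hab hne
    have e2 := main b a j i hb ha hbnc hanc (mem_C_comm.1 hab) (Ne.symm hne)
    exact hne (e2.trans e1.symm)
  · apply hne
    rw [coprime_commute h (mem_C.1 hab).symm (by
      rw [ha, hb]; exact Nat.Coprime.pow i j ((Nat.coprime_primes hs ht).2 hst)) hanc hbnc]

/-- a primary element is conjugate into each centraliser of index prime to it -/
theorem conj_into (t : ℕ) [Fact t.Prime] {c a : G} {k : ℕ} (hc : orderOf c = t ^ k)
    (ht : ¬ t ∣ (C a).index) : ∃ g : G, g⁻¹ * c * g ∈ C a := by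
  have hP : IsPGroup t (Subgroup.zpowers c) := IsPGroup.of_card (n := k) (by rw [Nat.card_zpowers, hc])
  obtain ⟨q, hq⟩ := hP.nonempty_fixed_point_of_prime_not_dvd_card (G ⧸ C a)
    (by rwa [← Subgroup.index_eq_card])
  refine ⟨q.out, ?_⟩
  have e : (c • q : G ⧸ C a) = q := hq ⟨c, Subgroup.mem_zpowers c⟩
  conv_lhs at e => rw [← QuotientGroup.out_eq' q, MulAction.Quotient.smul_mk, smul_eq_mul]
  conv_rhs at e => rw [← QuotientGroup.out_eq' q]
  have := QuotientGroup.eq.1 e.symm
  rwa [← mul_assoc] at this

theorem index_eq_of_conj (t : ℕ) [Fact t.Prime] {c a : G} {k : ℕ} (hc : orderOf c = t ^ k)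
    (hcz : c ∉ Subgroup.center G) (ha : a ∉ Subgroup.center G) (ht : (C a).index ≠ t) :
    (C c).index = (C a).index := by
  obtain ⟨g, hg⟩ := conj_into h t hc (a := a) (fun hd => ht
    ((Nat.prime_dvd_prime_iff_eq (Fact.out) (prime_of_noncentral h ha)).1 hd).symm)
  have hnc : g⁻¹ * c * g ∉ Subgroup.center G := fun hm => hcz (by
    have := Subgroup.Normal.conj_mem inferInstance _ hm g
    rwa [show g * (g⁻¹ * c * g) * g⁻¹ = c by group] at this)
  have e := index_eq_of_commute h (mem_C.1 hg) hnc ha
  have e' := index_C_conj (G := G) g⁻¹ c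
  rw [inv_inv] at e'
  exact e'.symm.trans e

theorem main : Subgroup.upperCentralSeries G 2 = ⊤ ∨
    ∃ p q : ℕ, p.Prime ∧ q.Prime ∧ p ≠ q ∧ Nat.card (G ⧸ Subgroup.center G) = p * q ∧
      ¬ IsMulCommutative (G ⧸ Subgroup.center G) := by
  classical
  by_cases htwo : ∃ a b : G, a ∉ Subgroup.center G ∧ b ∉ Subgroup.center G ∧
      (C a).index ≠ (C b).index
  · right
    obtain ⟨a, b, ha, hb, hne⟩ := htwo
    set p := (C a).index with hp
    set q := (C b).index with hq
    have hpp : p.Prime := prime_of_noncentral h ha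
    have hqp : q.Prime := prime_of_noncentral h hb
    have hp' : Fact p.Prime := ⟨hpp⟩
    have hq' : Fact q.Prime := ⟨hqp⟩
    have cls : ∀ (t : ℕ) (c : G) (k : ℕ), t.Prime → orderOf c = t ^ k → c ∉ Subgroup.center G →
        (t = p ∧ (C c).index = q) ∨ (t = q ∧ (C c).index = p) := by
      intro t c k ht hc hcz
      have : Fact t.Prime := ⟨ht⟩
      by_cases htp : p = t
      · exact Or.inl ⟨htp.symm, index_eq_of_conj h t hc hcz hb (fun e => hne (htp.trans e.symm))⟩
      · by_cases htq : q = t
        · exact Or.inr ⟨htq.symm, index_eq_of_conj h t hc hcz ha htp⟩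
        · exact absurd ((index_eq_of_conj h t hc hcz ha htp).symm.trans
            (index_eq_of_conj h t hc hcz hb htq)) hne
    have hle : ∀ x : G, Subgroup.center G ≤ C x := fun x g hg =>
      mem_C.2 (Subgroup.mem_center_iff.1 hg x).symm
    have exact1 : ∀ (a : G) (p : ℕ) [Fact p.Prime], a ∉ Subgroup.center G → (C a).index = p →
        (∀ (c : G) (k : ℕ), orderOf c = p ^ k → c ∉ Subgroup.center G → (C c).index ≠ p) →
        ∃ l, (Subgroup.center G).index = p * l ∧ ¬ p ∣ l := by
      intro a p _ ha hidx hel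
      refine ⟨(Subgroup.center G).relIndex (C a), ?_, ?_⟩
      · rw [← Subgroup.relIndex_mul_index (hle a), hidx, mul_comm]
      · refine not_dvd_index_of_forall p ((Subgroup.center G).subgroupOf (C a)) fun c ⟨k, hk⟩ => ?_
        show (c : G) ∈ Subgroup.center G
        by_contra hcz
        exact hel c k (by rw [Subgroup.orderOf_coe]; exact hk) hcz
          (by rw [index_eq_of_commute h (mem_C.1 c.2) hcz ha, hidx])
    obtain ⟨l, hl, hpl⟩ := exact1 a p ha rfl (fun c k hc hcz e => by
      rcases cls p c k hpp hc hcz with ⟨-, e'⟩ | ⟨e', -⟩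
      · exact hne (e.symm.trans e')
      · exact hne e')
    obtain ⟨l', hl', hql⟩ := exact1 b q hb rfl (fun c k hc hcz e => by
      rcases cls q c k hqp hc hcz with ⟨e', -⟩ | ⟨-, e'⟩
      · exact hne e'.symm
      · exact hne (e'.symm.trans e))
    have hqd : q ∣ l := by
      have : q ∣ p * l := hl ▸ hl'.symm ▸ dvd_mul_right q l'
      exact (hqp.dvd_mul.1 this).resolve_left fun hd =>
        hne ((Nat.prime_dvd_prime_iff_eq hqp hpp).1 hd).symm
    obtain ⟨m, hm⟩ := hqd
    have hm1 : m = 1 := by
      by_contra hm1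
      obtain ⟨t, ht, htd⟩ := Nat.exists_prime_and_dvd hm1
      have : Fact t.Prime := ⟨ht⟩
      refine not_dvd_index_of_forall t (Subgroup.center G) (fun c ⟨k, hk⟩ => ?_) ?_
      · by_contra hcz
        rcases cls t c k ht hk hcz with ⟨rfl, -⟩ | ⟨rfl, -⟩
        · exact hpl (hm ▸ dvd_mul_of_dvd_right htd q)
        · apply hql
          have : q * l' = q * (p * m) := by rw [← hl', hl, hm]; ring
          rw [Nat.eq_of_mul_eq_mul_left hqp.pos this]
          exact dvd_mul_of_dvd_right htd p
      · rw [hl, hm]; exact dvd_mul_of_dvd_right (dvd_mul_of_dvd_right htd q) p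
    have hcard : Nat.card (G ⧸ Subgroup.center G) = p * q := by
      rw [← Subgroup.index_eq_card, hl, hm, hm1, mul_one]
    refine ⟨p, q, hpp, hqp, hne, hcard, fun hcomm => ?_⟩
    obtain ⟨u, hu⟩ := exists_prime_orderOf_dvd_card' (G := G ⧸ Subgroup.center G) p
      (by rw [hcard]; exact dvd_mul_right p q)
    obtain ⟨v, hv⟩ := exists_prime_orderOf_dvd_card' (G := G ⧸ Subgroup.center G) q
      (by rw [hcard]; exact dvd_mul_left q p)
    have huv : Commute u v := hcomm.is_comm.comm u v
    have ho : orderOf (u * v) = Nat.card (G ⧸ Subgroup.center G) := by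
      rw [huv.orderOf_mul_eq_mul_orderOf_of_coprime (by
        rw [hu, hv]; exact (Nat.coprime_primes hpp hqp).2 hne), hu, hv, hcard]
    have : IsCyclic (G ⧸ Subgroup.center G) := isCyclic_of_orderOf_eq_card (u * v) ho
    apply ha
    rw [Subgroup.mem_center_iff]
    intro g
    exact commutative_of_cyclic_center_quotient (QuotientGroup.mk' (Subgroup.center G))
      (by rw [QuotientGroup.ker_mk']) g a
  · left
    push Not at htwo
    by_cases hcomm : ∀ x : G, x ∈ Subgroup.center G
    · rw [eq_top_iff]
      intro x _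
      exact Subgroup.upperCentralSeries_mono G (show 1 ≤ 2 by norm_num)
        (by rw [Subgroup.upperCentralSeries_one]; exact hcomm x)
    push Not at hcomm
    obtain ⟨a, ha⟩ := hcomm
    set p := (C a).index with hp
    have hp' : Fact p.Prime := ⟨prime_of_noncentral h ha⟩
    have hother : ∀ (t : ℕ) (c : G) (k : ℕ), t.Prime → t ≠ p → orderOf c = t ^ k →
        c ∈ Subgroup.center G := by
      intro t c k ht htp hc
      have : Fact t.Prime := ⟨ht⟩
      rw [← C_eq_top]
      refine eq_top_of_conj_cover _ fun x => ?_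
      have hnd : ¬ t ∣ (C x).index := by
        by_cases hx : x ∈ Subgroup.center G
        · rw [C_eq_top.2 hx, Subgroup.index_top]; exact ht.not_dvd_one
        · rw [htwo x a hx ha]
          exact fun hd => htp ((Nat.prime_dvd_prime_iff_eq ht hp'.out).1 hd)
      obtain ⟨g, hg⟩ := conj_into h t hc hnd
      refine ⟨g⁻¹, ?_⟩
      rw [inv_inv, mem_C]
      have hg' : g⁻¹ * c * g * x = x * (g⁻¹ * c * g) := mem_C.1 hg
      calc g * x * g⁻¹ * c = g * (x * (g⁻¹ * c * g)) * g⁻¹ := by group
        _ = c * (g * x * g⁻¹) := by rw [← hg']; group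
    have hQ : IsPGroup p (G ⧸ Subgroup.center G) := by
      apply IsPGroup.of_card (n := (Nat.card (G ⧸ Subgroup.center G)).primeFactorsList.length)
      refine Nat.eq_prime_pow_of_unique_prime_dvd (Nat.card_pos (α := G ⧸ Subgroup.center G)).ne' fun {t} ht htd => ?_
      by_contra htp
      have : Fact t.Prime := ⟨ht⟩
      exact not_dvd_index_of_forall t (Subgroup.center G)
        (fun c ⟨k, hk⟩ => hother t c k ht htp hk) (by rw [Subgroup.index_eq_card]; exact htd)
    have hnq : Group.IsNilpotent (G ⧸ Subgroup.center G) := IsPGroup.isNilpotent (p := p) (G := G ⧸ Subgroup.center G) hQ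
    have hnil : Group.IsNilpotent G := Group.of_quotient_center_nilpotent hnq
    have hcontain : ∀ x y z : G, ⁅y, z⁆ ∈ C x := by
      intro x y z
      by_cases hx : x ∈ Subgroup.center G
      · rw [C_eq_top.2 hx]; exact Subgroup.mem_top _
      have hI := prime_of_noncentral h hx
      have hco : IsCoatom (C x) := by
        refine ⟨fun e => hI.ne_one (by rw [e, Subgroup.index_top]), fun K hK => ?_⟩
        have := Subgroup.relIndex_mul_index hK.le
        rcases hI.eq_one_or_self_of_dvd _ (Subgroup.index_dvd_of_le hK.le) with e | e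
        · exact Subgroup.index_eq_one.1 e
        · exfalso
          apply hK.not_ge
          rw [e] at this
          exact Subgroup.relIndex_eq_one.1
            (Nat.mul_right_cancel hI.pos (this.trans (one_mul _).symm))
      have hN : (C x).Normal :=
        Subgroup.NormalizerCondition.normal_of_coatom (C x) Group.normalizerCondition_of_isNilpotent hco
      have : IsCyclic (G ⧸ C x) := by
        have : Fact (C x).index.Prime := ⟨hI⟩
        exact isCyclic_of_prime_card (p := (C x).index) (Subgroup.index_eq_card _).symm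
      letI := IsCyclic.commGroup (α := G ⧸ C x)
      rw [← QuotientGroup.eq_one_iff, commutatorElement_def]
      simp only [QuotientGroup.mk_mul, QuotientGroup.mk_inv]
      rw [mul_comm (y : G ⧸ C x) (z : G ⧸ C x)]
      group
    rw [eq_top_iff]
    intro y _
    rw [show (2 : ℕ) = 1 + 1 from rfl, Subgroup.mem_upperCentralSeries_succ_iff]
    intro z
    rw [Subgroup.upperCentralSeries_one, Subgroup.mem_center_iff]
    intro x
    have := mem_C.1 (hcontain x y z)
    exact this.symm

end Cfsg.Agent.PrimeClassSizes
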